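import Groth.Agent.H1.SplitTori.Main

/-!
# H1/SplitTori/Killed: a torus over a field killed by a positive integer is trivial.

* `DSmap_injective'` : `φ ↦ D_U(φ)` is injective over any nonempty base `U`.
* `isIso_DS_hom_of_subsingleton` : `D_U(M) → U` is an isomorphism for trivial `M`.
* `isTrivialGrp_of_torus_killed`.
-/

set_option autoImplicit false
universe u

open CategoryTheory MonoidalCategory CartesianMonoidalCategory MonObj GrpObj AlgebraicGeometry Limits

namespace Groth.Agent.H1.SplitTori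

open Groth.Agent.H27.DiagHom (cst)

theorem DSmap_injective' (U : Scheme.{u}) [Nonempty U] {M N : Type} [AddCommGroup M]
    [AddCommGroup N] {φ φ' : M →+ N} (h : Red.DSmap U φ = Red.DSmap U φ') : φ = φ' := by
  obtain ⟨u⟩ := ‹Nonempty U›
  let κ : Type u := U.residueField u
  let pt : Spec (CommRingCat.of κ) ⟶ U := U.fromSpecResidueField u
  let T' : Over U := Over.mk (Spec.map (CommRingCat.ofHom
    (algebraMap κ (MonoidAlgebra κ (Multiplicative N)))) ≫ pt)
  let x : T' ⟶ Red.DS U N := Over.homMk (pullback.lift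
    (Spec.map (CommRingCat.ofHom (MonoidAlgebra.mapRingHom (Multiplicative N) (cst κ)))) T'.hom
    (specULiftZIsTerminal.hom_ext _ _)) (pullback.lift_snd _ _ _)
  have hx : ∀ n : N, ev x n = (Scheme.ΓSpecIso (CommRingCat.of (MonoidAlgebra κ (Multiplicative N)))).inv
      (MonoidAlgebra.single (Multiplicative.ofAdd n) 1) := by
    intro n
    have e : x.left ≫ pullback.fst _ _ =
        Spec.map (CommRingCat.ofHom (MonoidAlgebra.mapRingHom (Multiplicative N) (cst κ))) :=
      pullback.lift_fst _ _ _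
    unfold ev
    rw [e]
    erw [specMap_appTop_inv]
    congr 1
    simp [cst]
  apply DFunLike.ext
  intro m
  have h1 : ev (x ≫ Red.DSmap U φ) m = ev (x ≫ Red.DSmap U φ') m := by rw [h]
  rw [ev_comp_DSmap, ev_comp_DSmap, hx, hx] at h1
  have h2 : Function.Injective
      (Scheme.ΓSpecIso (CommRingCat.of (MonoidAlgebra κ (Multiplicative N)))).inv.hom := by
    intro a b hab
    have := congrArg (Scheme.ΓSpecIso (CommRingCat.of (MonoidAlgebra κ (Multiplicative N)))).hom.hom hab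
    simpa using this
  have h3 := h2 h1
  have h4 := (MonoidAlgebra.single_left_inj (R := κ) (one_ne_zero)).mp h3
  exact Multiplicative.ofAdd.injective h4

theorem isIso_DS_hom_of_subsingleton (U : Scheme.{u}) (M : Type) [AddCommGroup M] [Subsingleton M] :
    IsIso (Red.DS U M).hom := by
  haveI : Subsingleton (Multiplicative M) := ‹Subsingleton M›
  have e : CommRingCat.ofHom (algebraMap (ULift.{u} ℤ)
      (MonoidAlgebra (ULift.{u} ℤ) (Multiplicative M))) =
      ((MonoidAlgebra.uniqueRingEquiv (R := ULift.{u} ℤ) (Multiplicative M)).symm.toCommRingCatIso).hom := by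
    apply CommRingCat.hom_ext
    ext r
    simp [MonoidAlgebra.coe_algebraMap, MonoidAlgebra.uniqueRingEquiv_symm_apply]
  haveI : IsIso (Red.diag (ULift.{u} ℤ) M).hom := by
    change IsIso (Spec.map (CommRingCat.ofHom (algebraMap (ULift.{u} ℤ)
      (MonoidAlgebra (ULift.{u} ℤ) (Multiplicative M)))))
    rw [e]
    infer_instance
  change IsIso (pullback.snd (Red.diag (ULift.{u} ℤ) M).hom _)
  infer_instance

theorem isTrivialGrp_of_torus_killed (k : Type u) [Field k]
    (T : Over (Spec (CommRingCat.of k))) [GrpObj T] (hT : Red.IsTorus T) (m : ℕ) (hm : 0 < m)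
    (hkill : (𝟙 T) ^ m = 1) : Red.IsTrivialGrp T := by
  obtain ⟨S', f, hfl, hsurj, -, hloc⟩ := hT
  obtain ⟨s', -⟩ := hsurj.1 (⟨⊥, Ideal.bot_prime⟩ : PrimeSpectrum k)
  obtain ⟨U, hsU, r, hsplit⟩ := hloc s'
  obtain ⟨e, heh, hei⟩ := exists_iso_of_grpIso hsplit
  haveI : Nonempty (U : Scheme.{u}) := ⟨⟨s', hsU⟩⟩
  -- the base change is killed by m
  have hpow : ∀ j : ℕ, (Over.pullback (U.ι ≫ f)).map ((𝟙 T) ^ j) =
      (𝟙 (Red.bc (U.ι ≫ f) T)) ^ j := by
    intro j
    have := map_pow (Functor.homMonoidHom (X := T) (M := T) (Over.pullback (U.ι ≫ f))) (𝟙 T) j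
    simpa using this
  have hk1 : (𝟙 (Red.bc (U.ι ≫ f) T)) ^ m = 1 := by
    rw [← hpow, hkill]
    exact Functor.map_one _
  -- transport to D_U(ℤ^r)
  have hk2 : (𝟙 (Red.DS (U : Scheme.{u}) (Fin r → ℤ))) ^ m = 1 := by
    have h1 : e.inv ≫ (((𝟙 (Red.bc (U.ι ≫ f) T)) ^ m) ≫ e.hom) =
        (𝟙 (Red.DS (U : Scheme.{u}) (Fin r → ℤ))) ^ m := by
      rw [MonObj.pow_comp _ _ e.hom, MonObj.comp_pow, Category.id_comp, Iso.inv_hom_id]
    rw [← h1, hk1, MonObj.one_comp e.hom, MonObj.comp_one]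
  have hk3 : Red.DSmap (U : Scheme.{u}) (m • AddMonoidHom.id (Fin r → ℤ)) =
      Red.DSmap (U : Scheme.{u}) (0 : (Fin r → ℤ) →+ (Fin r → ℤ)) := by
    rw [Groth.Agent.H27.DiagHom.DSmap_nsmul, Groth.Agent.H27.DiagHom.DSmap_id,
      Groth.Agent.H27.DiagHom.DSmap_zero, hk2]
  have hk4 := DSmap_injective' (U : Scheme.{u}) hk3
  have hr : r = 0 := by
    by_contra hr
    obtain ⟨i⟩ : Nonempty (Fin r) := ⟨⟨0, Nat.pos_of_ne_zero hr⟩⟩
    have h5 := DFunLike.congr_fun hk4 (Pi.single i 1)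
    have h6 := congrFun h5 i
    simp at h6
    omega
  subst hr
  -- so the base change is trivial
  haveI : IsIso (Red.DS (U : Scheme.{u}) (Fin 0 → ℤ)).hom := isIso_DS_hom_of_subsingleton _ _
  haveI : IsIso e.hom.left := (Over.forget _).map_isIso e.hom
  have hiso : IsIso (pullback.snd T.hom (U.ι ≫ f)) := by
    have h7 : e.hom.left ≫ (Red.DS (U : Scheme.{u}) (Fin 0 → ℤ)).hom =
        pullback.snd T.hom (U.ι ≫ f) := Over.w e.hom
    rw [← h7]
    infer_instance
  -- shrink to an affine open and descend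
  let c := (U : Scheme.{u}).affineCover
  let su : (U : Scheme.{u}) := ⟨s', hsU⟩
  let j := c.f (c.idx su)
  obtain ⟨v, -⟩ := c.covers su
  have hiso2 : IsIso (pullback.snd T.hom (j ≫ U.ι ≫ f)) := by
    haveI := hiso
    have h8 : pullback.snd T.hom (j ≫ U.ι ≫ f) =
        (pullbackLeftPullbackSndIso T.hom (U.ι ≫ f) j).inv ≫
          pullback.snd (pullback.snd T.hom (U.ι ≫ f)) j := by
      rw [Iso.eq_inv_comp]
      exact pullbackLeftPullbackSndIso_hom_snd T.hom (U.ι ≫ f) j
    rw [h8]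
    infer_instance
  have hQ : (@Surjective ⊓ @Flat ⊓ @QuasiCompact : MorphismProperty Scheme.{u}) (j ≫ U.ι ≫ f) := by
    refine ⟨⟨⟨fun y => ⟨v, Subsingleton.elim (α := PrimeSpectrum k) _ _⟩⟩, ?_⟩, ?_⟩
    · show Flat (j ≫ U.ι ≫ f)
      infer_instance
    · show QuasiCompact (j ≫ U.ι ≫ f)
      infer_instance
  have := MorphismProperty.of_pullback_snd_of_descendsAlong
    (P := MorphismProperty.isomorphisms Scheme.{u})
    (Q := (@Surjective ⊓ @Flat ⊓ @QuasiCompact : MorphismProperty Scheme.{u}))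
    (f := T.hom) (g := j ≫ U.ι ≫ f) hQ hiso2
  exact this

end Groth.Agent.H1.SplitTori
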