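import Groth.Agent.H1.SplitTori.Basic
import Groth.Agent.H43.TorusUnits

/-!
# H1/SplitTori/Full: `D_{Spec k}(N) ≅ Spec k[N]`; homomorphisms between split tori over a domain
come from homomorphisms of character groups (`char_eq_chi`, `full`).
-/

set_option autoImplicit false
universe u

open CategoryTheory MonoidalCategory CartesianMonoidalCategory MonObj GrpObj AlgebraicGeometry Limits

namespace Groth.Agent.H1.SplitTori

open Groth.Agent.H27.DiagHom (cst)
open scoped AlgebraMonoidAlgebra

theorem pb_congr {C : Type*} [Category C] {P X Y Z : C} {fst : P ⟶ X} {snd : P ⟶ Y}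
    {f f' : X ⟶ Z} {g g' : Y ⟶ Z}
    (h : IsPullback fst snd f g) (ef : f = f') (eg : g = g') : IsPullback fst snd f' g' := by
  subst ef eg; exact h

theorem isUnit_monoidAlgebra_pi {A : Type*} [CommRing A] [IsDomain A] (n : ℕ)
    (w : MonoidAlgebra A (Multiplicative (Fin n → ℤ))) (hw : IsUnit w) :
    ∃ (a : A) (e : Fin n → ℤ), IsUnit a ∧ w = MonoidAlgebra.single (Multiplicative.ofAdd e) a := by
  obtain ⟨a, e, ha, h⟩ := Groth.Agent.H43.TorusUnits.isUnit_pi n
    ((AddMonoidAlgebra.toMultiplicative A (Fin n → ℤ)).symm w) (hw.map _)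
  refine ⟨a, e, ha, ?_⟩
  rw [← (AddMonoidAlgebra.toMultiplicative A (Fin n → ℤ)).apply_symm_apply w, h,
    AddMonoidAlgebra.toMultiplicative_single]

theorem ΓSpecIso_hom_inv_apply (A : CommRingCat.{u}) (a : A) :
    (Scheme.ΓSpecIso A).hom ((Scheme.ΓSpecIso A).inv a) = a := by
  have := ConcreteCategory.congr_hom (Scheme.ΓSpecIso A).inv_hom_id a
  simpa using this

theorem isPushout_monoidAlgebra (R A : Type u) [CommRing R] [CommRing A] (G : Type) [CommMonoid G]
    (c : R →+* A) :
    IsPushout (CommRingCat.ofHom (algebraMap R (MonoidAlgebra R G))) (CommRingCat.ofHom c)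
      (CommRingCat.ofHom (MonoidAlgebra.mapRingHom G c))
      (CommRingCat.ofHom (algebraMap A (MonoidAlgebra A G))) := by
  have hw : CommRingCat.ofHom (algebraMap R (MonoidAlgebra R G)) ≫
      CommRingCat.ofHom (MonoidAlgebra.mapRingHom G c) =
      CommRingCat.ofHom c ≫ CommRingCat.ofHom (algebraMap A (MonoidAlgebra A G)) := by
    apply CommRingCat.hom_ext
    ext r
    simp [MonoidAlgebra.coe_algebraMap]
  refine ⟨⟨hw⟩, ⟨PushoutCocone.isColimitAux' _ fun s => ?_⟩⟩
  let a : A →+* s.pt := s.inr.hom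
  let l : MonoidAlgebra R G →+* s.pt := s.inl.hom
  have hcond : ∀ r : R, l (MonoidAlgebra.single 1 r) = a (c r) := by
    intro r
    have := congrArg (fun φ => φ.hom r) s.condition
    simpa [MonoidAlgebra.coe_algebraMap] using this
  let d : MonoidAlgebra A G →+* s.pt :=
    MonoidAlgebra.liftNCRingHom a ((l : MonoidAlgebra R G →* s.pt).comp (MonoidAlgebra.of R G))
      (fun _ _ => Commute.all _ _)
  have hd : ∀ (g : G) (x : A), d (MonoidAlgebra.single g x) =
      a x * l (MonoidAlgebra.single g 1) := fun g x =>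
    MonoidAlgebra.liftNCRingHom_single _ _ _ g x
  have hone : l (MonoidAlgebra.single 1 1) = 1 := by
    rw [← MonoidAlgebra.one_def, map_one]
  refine ⟨CommRingCat.ofHom d, ?_, ?_, ?_⟩
  · apply CommRingCat.hom_ext
    apply MonoidAlgebra.ringHom_ext
    · intro r
      show d (MonoidAlgebra.mapRingHom G c (MonoidAlgebra.single 1 r)) =
        l (MonoidAlgebra.single 1 r)
      rw [MonoidAlgebra.mapRingHom_single, hd, hone, _root_.mul_one, hcond]
    · intro g
      show d (MonoidAlgebra.mapRingHom G c (MonoidAlgebra.single g 1)) =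
        l (MonoidAlgebra.single g 1)
      rw [MonoidAlgebra.mapRingHom_single, hd, map_one, map_one, _root_.one_mul]
  · apply CommRingCat.hom_ext
    ext x
    show d (MonoidAlgebra.single 1 x) = a x
    rw [hd, hone, _root_.mul_one]
  · intro m h1 h2
    apply CommRingCat.hom_ext
    apply MonoidAlgebra.ringHom_ext
    · intro x
      have := congrArg (fun φ => φ.hom x) h2
      show m.hom (MonoidAlgebra.single 1 x) = d (MonoidAlgebra.single 1 x)
      rw [hd, hone, _root_.mul_one]
      exact this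
    · intro g
      have := congrArg (fun φ => φ.hom (MonoidAlgebra.single g 1)) h1
      show m.hom (MonoidAlgebra.single g 1) = d (MonoidAlgebra.single g 1)
      rw [hd, map_one, _root_.one_mul]
      have h3 : m.hom (MonoidAlgebra.mapRingHom G c (MonoidAlgebra.single g 1)) =
          l (MonoidAlgebra.single g 1) := this
      rw [MonoidAlgebra.mapRingHom_single, map_one] at h3
      exact h3

section Iso
variable (k : Type u) [CommRing k] (N : Type) [AddCommGroup N]

theorem isPullback_spec : IsPullback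
    (Spec.map (CommRingCat.ofHom (MonoidAlgebra.mapRingHom (Multiplicative N) (cst k))))
    (Spec.map (CommRingCat.ofHom (algebraMap k (MonoidAlgebra k (Multiplicative N)))))
    (Spec.map (CommRingCat.ofHom (algebraMap (ULift.{u} ℤ)
      (MonoidAlgebra (ULift.{u} ℤ) (Multiplicative N)))))
    (Spec.map (CommRingCat.ofHom (cst k))) :=
  isPullback_SpecMap_of_isPushout _ _ _ _
    (isPushout_monoidAlgebra (ULift.{u} ℤ) k (Multiplicative N) (cst k))

theorem isPullback_DS : IsPullback
    (pullback.fst (Red.diag (ULift.{u} ℤ) N).hom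
      (Limits.IsTerminal.from specULiftZIsTerminal (Spec (CommRingCat.of k))))
    (pullback.snd (Red.diag (ULift.{u} ℤ) N).hom
      (Limits.IsTerminal.from specULiftZIsTerminal (Spec (CommRingCat.of k))))
    (Spec.map (CommRingCat.ofHom (algebraMap (ULift.{u} ℤ)
      (MonoidAlgebra (ULift.{u} ℤ) (Multiplicative N)))))
    (Spec.map (CommRingCat.ofHom (cst k))) :=
  pb_congr (IsPullback.of_hasPullback _ _) rfl (specULiftZIsTerminal.hom_ext _ _)

/-- `Spec k[N] ≅ D_{Spec k}(N)` as schemes. -/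
noncomputable def eN : Spec (CommRingCat.of (MonoidAlgebra k (Multiplicative N))) ≅
    (Red.DS (Spec (CommRingCat.of k)) N).left :=
  (isPullback_spec k N).isoIsPullback _ _ (isPullback_DS k N)

theorem eN_hom_fst : (eN k N).hom ≫ pullback.fst _ _ =
    Spec.map (CommRingCat.ofHom (MonoidAlgebra.mapRingHom (Multiplicative N) (cst k))) :=
  IsPullback.isoIsPullback_hom_fst _ _ _ _

theorem eN_hom_snd : (eN k N).hom ≫ (Red.DS (Spec (CommRingCat.of k)) N).hom =
    Spec.map (CommRingCat.ofHom (algebraMap k (MonoidAlgebra k (Multiplicative N)))) :=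
  IsPullback.isoIsPullback_hom_snd _ _ _ _

/-- the ring map `Γ(D(N)) → k[N]` (an isomorphism). -/
noncomputable def theta :
    Γ((Red.DS (Spec (CommRingCat.of k)) N).left, ⊤) →+* MonoidAlgebra k (Multiplicative N) :=
  (Scheme.ΓSpecIso (CommRingCat.of (MonoidAlgebra k (Multiplicative N)))).hom.hom.comp
    (eN k N).hom.appTop.hom

theorem theta_injective : Function.Injective (theta k N) := by
  have h1 : Function.Injective
      (Scheme.ΓSpecIso (CommRingCat.of (MonoidAlgebra k (Multiplicative N)))).hom.hom := by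
    intro x y hxy
    have := congrArg (Scheme.ΓSpecIso (CommRingCat.of (MonoidAlgebra k (Multiplicative N)))).inv.hom hxy
    simpa using this
  have h2 : Function.Injective (eN k N).hom.appTop.hom := by
    apply Function.LeftInverse.injective (g := (eN k N).inv.appTop.hom)
    intro x
    have h : (eN k N).hom.appTop ≫ (eN k N).inv.appTop = 𝟙 _ := by
      rw [← Scheme.Hom.comp_appTop, Iso.inv_hom_id]; rfl
    exact ConcreteCategory.congr_hom h x
  exact h1.comp h2

theorem theta_apply (z : Γ((Red.DS (Spec (CommRingCat.of k)) N).left, ⊤)) :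
    theta k N z = (Scheme.ΓSpecIso (CommRingCat.of (MonoidAlgebra k (Multiplicative N)))).hom
      ((eN k N).hom.appTop z) := rfl

theorem theta_ev (e : N) :
    theta k N (ev (𝟙 (Red.DS (Spec (CommRingCat.of k)) N)) e) =
      MonoidAlgebra.single (Multiplicative.ofAdd e) 1 := by
  rw [theta_apply]
  unfold ev
  rw [Over.id_left, Category.id_comp]
  have h : (eN k N).hom.appTop ((pullback.fst (Red.diag (ULift.{u} ℤ) N).hom
        (Limits.IsTerminal.from specULiftZIsTerminal (Spec (CommRingCat.of k)))).appTop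
      ((Scheme.ΓSpecIso (CommRingCat.of (MonoidAlgebra (ULift.{u} ℤ) (Multiplicative N)))).inv
        (MonoidAlgebra.single (Multiplicative.ofAdd e) 1))) =
      ((eN k N).hom ≫ pullback.fst _ _).appTop
        ((Scheme.ΓSpecIso (CommRingCat.of (MonoidAlgebra (ULift.{u} ℤ) (Multiplicative N)))).inv
          (MonoidAlgebra.single (Multiplicative.ofAdd e) 1)) := by
    rw [Scheme.Hom.comp_appTop]; rfl
  rw [h, eN_hom_fst]
  erw [specMap_appTop_inv]
  rw [ΓSpecIso_hom_inv_apply]
  simp

theorem theta_str (a : k) :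
    theta k N ((Red.DS (Spec (CommRingCat.of k)) N).hom.appTop
      ((Scheme.ΓSpecIso (CommRingCat.of k)).inv a)) =
      MonoidAlgebra.single 1 a := by
  rw [theta_apply]
  have h : (eN k N).hom.appTop ((Red.DS (Spec (CommRingCat.of k)) N).hom.appTop
      ((Scheme.ΓSpecIso (CommRingCat.of k)).inv a)) =
      ((eN k N).hom ≫ (Red.DS (Spec (CommRingCat.of k)) N).hom).appTop
        ((Scheme.ΓSpecIso (CommRingCat.of k)).inv a) := by
    rw [Scheme.Hom.comp_appTop]; rfl
  rw [h, eN_hom_snd]
  erw [specMap_appTop_inv]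
  rw [ΓSpecIso_hom_inv_apply]
  simp [MonoidAlgebra.coe_algebraMap]

end Iso

section Full
variable (k : Type u) [CommRing k] [IsDomain k]

/-- A morphism `D(ℤⁿ) ⟶ 𝔾_m` over a domain preserving the unit section is a character `χ_e`. -/
theorem char_eq_chi (n : ℕ)
    (χ : Red.DS (Spec (CommRingCat.of k)) (Fin n → ℤ) ⟶ Red.Gm (Spec (CommRingCat.of k)))
    (h1 : η[Red.DS (Spec (CommRingCat.of k)) (Fin n → ℤ)] ≫ χ =
      η[Red.Gm (Spec (CommRingCat.of k))]) :
    ∃ e : Fin n → ℤ, χ = Red.chi (Spec (CommRingCat.of k)) e := by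
  have hu : IsUnit (theta k (Fin n → ℤ) (Red.gmFn χ)) := by
    rw [gmFn_eq_ev]; exact (isUnit_ev χ 1).map (theta k (Fin n → ℤ))
  obtain ⟨a, e, ha, hw⟩ := isUnit_monoidAlgebra_pi n _ hu
  refine ⟨e, ?_⟩
  have hdec : Red.gmFn χ = (Red.DS (Spec (CommRingCat.of k)) (Fin n → ℤ)).hom.appTop
      ((Scheme.ΓSpecIso (CommRingCat.of k)).inv a) *
        ev (𝟙 (Red.DS (Spec (CommRingCat.of k)) (Fin n → ℤ))) e := by
    apply theta_injective k (Fin n → ℤ)
    rw [hw, map_mul, theta_str, theta_ev, MonoidAlgebra.single_mul_single, _root_.one_mul,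
      _root_.mul_one]
  -- pull back along the unit section
  have hη := congrArg (fun z => (η[Red.DS (Spec (CommRingCat.of k)) (Fin n → ℤ)]).left.appTop z) hdec
  simp only [map_mul] at hη
  have hL : (η[Red.DS (Spec (CommRingCat.of k)) (Fin n → ℤ)]).left.appTop (Red.gmFn χ) =
      Red.gmFn (η[Red.Gm (Spec (CommRingCat.of k))]) := by
    rw [gmFn_eq_ev, ← ev_comp, h1, gmFn_eq_ev]
  have hR2 : (η[Red.DS (Spec (CommRingCat.of k)) (Fin n → ℤ)]).left.appTop
      (ev (𝟙 (Red.DS (Spec (CommRingCat.of k)) (Fin n → ℤ))) e) =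
      Red.gmFn (η[Red.Gm (Spec (CommRingCat.of k))]) := by
    rw [← ev_comp, Category.comp_id, ← gmFn_comp_chi,
      (Groth.Agent.H91.KummerKer.chi_isMonHom (Spec (CommRingCat.of k)) e).one_hom]
  have hR1 : (η[Red.DS (Spec (CommRingCat.of k)) (Fin n → ℤ)]).left.appTop
      ((Red.DS (Spec (CommRingCat.of k)) (Fin n → ℤ)).hom.appTop
        ((Scheme.ΓSpecIso (CommRingCat.of k)).inv a)) =
      (Scheme.ΓSpecIso (CommRingCat.of k)).inv a := by
    have h2 : (η[Red.DS (Spec (CommRingCat.of k)) (Fin n → ℤ)]).left.appTop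
      ((Red.DS (Spec (CommRingCat.of k)) (Fin n → ℤ)).hom.appTop
        ((Scheme.ΓSpecIso (CommRingCat.of k)).inv a)) =
        ((η[Red.DS (Spec (CommRingCat.of k)) (Fin n → ℤ)]).left ≫
          (Red.DS (Spec (CommRingCat.of k)) (Fin n → ℤ)).hom).appTop
          ((Scheme.ΓSpecIso (CommRingCat.of k)).inv a) := by
      rw [Scheme.Hom.comp_appTop]; rfl
    rw [h2, Over.w]
    change (Scheme.Hom.appTop (𝟙 (Spec (CommRingCat.of k)))) _ = _
    simp
  rw [hL, hR2] at hη
  have hu2 : IsUnit (Red.gmFn (η[Red.Gm (Spec (CommRingCat.of k))])) := by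
    rw [gmFn_eq_ev]; exact isUnit_ev _ _
  have ha1 : (Scheme.ΓSpecIso (CommRingCat.of k)).inv a = 1 := by
    have h3 : (η[Red.DS (Spec (CommRingCat.of k)) (Fin n → ℤ)]).left.appTop
      ((Red.DS (Spec (CommRingCat.of k)) (Fin n → ℤ)).hom.appTop
        ((Scheme.ΓSpecIso (CommRingCat.of k)).inv a)) = 1 := by
      have h4 := hη
      nth_rewrite 1 [← _root_.one_mul (Red.gmFn (η[Red.Gm (Spec (CommRingCat.of k))]))] at h4
      exact (hu2.mul_left_inj.mp h4).symm
    rw [hR1] at h3
    exact h3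
  apply gm_ext
  rw [hdec, ha1, map_one, _root_.one_mul, ← gmFn_comp_chi, Category.id_comp]

/-- Fullness: a morphism between split tori over a domain preserving the unit section is `D(φ)`. -/
theorem full {a b : ℕ}
    (f : Red.DS (Spec (CommRingCat.of k)) (Fin a → ℤ) ⟶ Red.DS (Spec (CommRingCat.of k)) (Fin b → ℤ))
    (h1 : η[Red.DS (Spec (CommRingCat.of k)) (Fin a → ℤ)] ≫ f =
      η[Red.DS (Spec (CommRingCat.of k)) (Fin b → ℤ)]) :
    ∃ φ : (Fin b → ℤ) →+ (Fin a → ℤ), f = Red.DSmap (Spec (CommRingCat.of k)) φ := by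
  have hχ : ∀ i : Fin b, ∃ e : Fin a → ℤ,
      f ≫ Red.chi (Spec (CommRingCat.of k)) (Pi.single i (1 : ℤ) : Fin b → ℤ) =
        Red.chi (Spec (CommRingCat.of k)) e := by
    intro i
    apply char_eq_chi
    rw [← Category.assoc, h1, (Groth.Agent.H91.KummerKer.chi_isMonHom (Spec (CommRingCat.of k))
      (Pi.single i (1 : ℤ) : Fin b → ℤ)).one_hom]
  choose e he using hχ
  refine ⟨(Fintype.linearCombination ℤ e).toAddMonoidHom, ?_⟩
  apply hom_ext_basis
  intro i
  rw [← gmFn_comp_chi, he i]
  have h2 : Red.DSmap (Spec (CommRingCat.of k)) (Fintype.linearCombination ℤ e).toAddMonoidHom =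
      𝟙 _ ≫ Red.DSmap (Spec (CommRingCat.of k)) (Fintype.linearCombination ℤ e).toAddMonoidHom :=
    (Category.id_comp _).symm
  rw [h2, ev_comp_DSmap, ← Category.id_comp (Red.chi (Spec (CommRingCat.of k)) (e i)),
    gmFn_comp_chi]
  congr 1
  simp [Fintype.linearCombination_apply_single]

end Full

end Groth.Agent.H1.SplitTori
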