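import Groth.Prelude.Def_Red
import Groth.Prelude.Def_Red2
import Groth.Prelude.Def_AlgGrp
import Groth.Agent.H27.DiagHom
import Groth.Agent.H91.KummerKer
import Mathlib

/-!
# H1/SplitTori/Basic: points of `D_S(M)` via characters, and `D_{Spec k}(N) ≅ Spec k[N]`

* `ev x m` : the function on `T` attached to a point `x : T ⟶ D_S(M)` and `m : M`;
  `gmFn_comp_chi`, `ev_comp`, `hom_ext_ev` (a point is determined by its `ev`), `isUnit_ev`.
* `eN k N : Spec k[N] ≅ (D_{Spec k}(N)).left` with its projections.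
-/

set_option autoImplicit false
universe u

open CategoryTheory MonoidalCategory CartesianMonoidalCategory MonObj GrpObj AlgebraicGeometry Limits

namespace Groth.Agent.H1.SplitTori

theorem specMap_appTop_inv {A B : CommRingCat.{u}} (f : A ⟶ B) (a : A) :
    (Spec.map f).appTop ((Scheme.ΓSpecIso A).inv a) = (Scheme.ΓSpecIso B).inv (f a) := by
  have := Scheme.ΓSpecIso_inv_naturality f
  exact (ConcreteCategory.congr_hom this a).symm

section Points
variable {S : Scheme.{u}} {M : Type} [AddCommGroup M]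

/-- the function on `T` attached to a point of `D_S(M)` and a character `m`. -/
noncomputable def ev {T : Over S} (x : T ⟶ Red.DS S M) (m : M) : Γ(T.left, ⊤) :=
  (x.left ≫ pullback.fst _ _).appTop
    ((Scheme.ΓSpecIso (CommRingCat.of (MonoidAlgebra (ULift.{u} ℤ) (Multiplicative M)))).inv
      (MonoidAlgebra.single (Multiplicative.ofAdd m) 1))

/-- `ev x` as a monoid homomorphism. -/
noncomputable def evHom {T : Over S} (x : T ⟶ Red.DS S M) : Multiplicative M →* Γ(T.left, ⊤) :=
  (((x.left ≫ pullback.fst _ _).appTop.hom.comp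
    (Scheme.ΓSpecIso (CommRingCat.of (MonoidAlgebra (ULift.{u} ℤ) (Multiplicative M)))).inv.hom :
      MonoidAlgebra (ULift.{u} ℤ) (Multiplicative M) →+* Γ(T.left, ⊤)) : _ →* _).comp
    (MonoidAlgebra.of (ULift.{u} ℤ) (Multiplicative M))

theorem evHom_apply {T : Over S} (x : T ⟶ Red.DS S M) (m : M) :
    evHom x (Multiplicative.ofAdd m) = ev x m := rfl

theorem ev_add {T : Over S} (x : T ⟶ Red.DS S M) (m m' : M) :
    ev x (m + m') = ev x m * ev x m' := by
  rw [← evHom_apply, ← evHom_apply, ← evHom_apply, ofAdd_add, map_mul]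

theorem ev_zero {T : Over S} (x : T ⟶ Red.DS S M) : ev x 0 = 1 := by
  rw [← evHom_apply, ofAdd_zero, map_one]

theorem gmFn_eq_ev {T : Over S} (x : T ⟶ Red.Gm S) : Red.gmFn x = ev x (1 : ℤ) := rfl

theorem ev_comp {T T' : Over S} (g : T' ⟶ T) (x : T ⟶ Red.DS S M) (m : M) :
    ev (g ≫ x) m = g.left.appTop (ev x m) := by
  unfold ev
  rw [Over.comp_left, Category.assoc, Scheme.Hom.comp_appTop]
  rfl

theorem ev_comp_DSmap {N : Type} [AddCommGroup N] {T : Over S} (x : T ⟶ Red.DS S N) (φ : M →+ N)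
    (m : M) : ev (x ≫ Red.DSmap S φ) m = ev x (φ m) := by
  unfold ev Red.DSmap
  have h := (Groth.Agent.H27.isPullback_pullback_map_left
    (Limits.IsTerminal.from specULiftZIsTerminal S) (Red.diagMap (ULift.{u} ℤ) φ)).w
  rw [Over.comp_left, Category.assoc]
  erw [h]
  rw [← Category.assoc, Scheme.Hom.comp_appTop]
  change (x.left ≫ pullback.fst _ _).appTop ((Spec.map _).appTop _) = _
  rw [specMap_appTop_inv]
  congr 2
  simp

theorem gmFn_comp_chi {T : Over S} (x : T ⟶ Red.DS S M) (m : M) :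
    Red.gmFn (x ≫ Red.chi S m) = ev x m := by
  rw [gmFn_eq_ev]
  unfold Red.chi
  rw [ev_comp_DSmap]
  simp

theorem isUnit_ev {T : Over S} (x : T ⟶ Red.DS S M) (m : M) : IsUnit (ev x m) := by
  unfold ev
  have h : IsUnit (MonoidAlgebra.single (Multiplicative.ofAdd m) (1 : ULift.{u} ℤ)) :=
    (Group.isUnit (Multiplicative.ofAdd m)).map (MonoidAlgebra.of (ULift.{u} ℤ) (Multiplicative M))
  exact (h.map (Scheme.ΓSpecIso (CommRingCat.of
    (MonoidAlgebra (ULift.{u} ℤ) (Multiplicative M)))).inv.hom).map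
      (x.left ≫ pullback.fst _ _).appTop.hom

theorem hom_ext_ev {T : Over S} {x y : T ⟶ Red.DS S M} (h : ∀ m, ev x m = ev y m) : x = y := by
  apply Over.OverMorphism.ext
  apply pullback.hom_ext
  · haveI : IsAffine (Red.diag (ULift.{u} ℤ) M).left :=
      inferInstanceAs (IsAffine (Spec _))
    apply ext_of_isAffine
    refine (cancel_epi (Scheme.ΓSpecIso (CommRingCat.of
      (MonoidAlgebra (ULift.{u} ℤ) (Multiplicative M)))).inv).1 ?_
    apply CommRingCat.hom_ext
    apply MonoidAlgebra.ringHom_ext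
    · intro r
      have := Groth.Agent.H93.GaGmLaw.ulift_hom_ext
        (((Scheme.ΓSpecIso _).inv ≫ (x.left ≫ pullback.fst _ _).appTop).hom.comp
          (MonoidAlgebra.singleOneRingHom (R := ULift.{u} ℤ) (M := Multiplicative M)))
        (((Scheme.ΓSpecIso _).inv ≫ (y.left ≫ pullback.fst _ _).appTop).hom.comp
          (MonoidAlgebra.singleOneRingHom (R := ULift.{u} ℤ) (M := Multiplicative M)))
      exact RingHom.congr_fun this r
    · intro g
      exact h (Multiplicative.toAdd g)
  · exact (Over.w x).trans (Over.w y).symm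

theorem hom_ext_chi {T : Over S} {x y : T ⟶ Red.DS S M}
    (h : ∀ m, x ≫ Red.chi S m = y ≫ Red.chi S m) : x = y :=
  hom_ext_ev fun m => by rw [← gmFn_comp_chi, ← gmFn_comp_chi, h]

theorem gm_ext {T : Over S} {x y : T ⟶ Red.Gm S} (h : Red.gmFn x = Red.gmFn y) : x = y := by
  apply hom_ext_ev
  intro m
  have hx := gmFn_eq_ev x
  have hy := gmFn_eq_ev y
  have h1 : ev x (1 : ℤ) = ev y (1 : ℤ) := by rw [← hx, ← hy, h]
  have := MonoidHom.ext_mint (f := evHom x) (g := evHom y) h1
  exact DFunLike.congr_fun this (Multiplicative.ofAdd m)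

theorem hom_ext_basis {b : ℕ} {T : Over S} {x y : T ⟶ Red.DS S (Fin b → ℤ)}
    (h : ∀ i : Fin b, ev x (Pi.single i 1) = ev y (Pi.single i 1)) : x = y := by
  apply hom_ext_ev
  have key : MonoidHom.toAdditiveRight (evHom x).toHomUnits =
      MonoidHom.toAdditiveRight (evHom y).toHomUnits := by
    apply AddMonoidHom.functions_ext
    intro i z
    have hz : (Pi.single i z : Fin b → ℤ) = z • Pi.single i 1 := by
      rw [← Pi.single_smul]; simp
    rw [hz, map_zsmul, map_zsmul]
    congr 1
    apply congrArg Additive.ofMul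
    apply Units.ext
    exact h i
  intro m
  have h1 := DFunLike.congr_fun key m
  have h2 := congrArg (fun u => ((Additive.toMul u : (Γ(T.left, ⊤))ˣ) : Γ(T.left, ⊤))) h1
  exact h2

end Points

end Groth.Agent.H1.SplitTori
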