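import Mathlib

/-!
# H1/SplitTori/Retract: an injective homomorphism `ℤ^a → ℤ^b` with saturated image has a retraction.
-/

set_option autoImplicit false

namespace Groth.Agent.H1.SplitTori

theorem exists_retraction {a b : ℕ} (φ : (Fin a → ℤ) →+ (Fin b → ℤ)) (hinj : Function.Injective φ)
    (hsat : ∀ (x : Fin b → ℤ) (c : ℤ), c ≠ 0 → c • x ∈ Set.range φ → x ∈ Set.range φ) :
    ∃ r : (Fin b → ℤ) →+ (Fin a → ℤ), r.comp φ = AddMonoidHom.id _ := by
  let f : (Fin a → ℤ) →ₗ[ℤ] (Fin b → ℤ) := φ.toIntLinearMap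
  let q : (Fin b → ℤ) →ₗ[ℤ] ((Fin b → ℤ) ⧸ LinearMap.range f) := (LinearMap.range f).mkQ
  haveI : Module.IsTorsionFree ℤ ((Fin b → ℤ) ⧸ LinearMap.range f) := by
    apply Module.IsTorsionFree.of_smul_eq_zero
    intro c m hcm
    by_cases hc : c = 0
    · exact Or.inl hc
    · right
      obtain ⟨x, rfl⟩ := Submodule.mkQ_surjective _ m
      have h1 : c • x ∈ LinearMap.range f := by
        rw [← Submodule.Quotient.mk_eq_zero, Submodule.Quotient.mk_smul]
        exact hcm
      obtain ⟨y, hy⟩ := h1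
      obtain ⟨z, hz⟩ := hsat x c hc ⟨y, hy⟩
      rw [Submodule.mkQ_apply, Submodule.Quotient.mk_eq_zero]
      exact ⟨z, hz⟩
  obtain ⟨σ, hσ⟩ := Module.projective_lifting_property q LinearMap.id (Submodule.mkQ_surjective _)
  have hex : Function.Exact f q := by
    intro y
    rw [Submodule.mkQ_apply, Submodule.Quotient.mk_eq_zero, LinearMap.mem_range]
    rfl
  have h2 := (hex.split_tfae').out 0 1
  obtain ⟨-, l, hl⟩ := h2.mp ⟨hinj, σ, hσ⟩
  refine ⟨l.toAddMonoidHom, ?_⟩
  apply DFunLike.ext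
  intro x
  exact LinearMap.congr_fun hl x

end Groth.Agent.H1.SplitTori
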