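import Groth.Agent.H1.SplitTori.Full
import Groth.Agent.H1.SplitTori.Retract
import Groth.Agent.H40.FpqcDesc

/-!
# H1/SplitTori/Main: exact sequences of split tori over a field split.
-/

set_option autoImplicit false
universe u

open CategoryTheory MonoidalCategory CartesianMonoidalCategory MonObj GrpObj AlgebraicGeometry Limits

namespace Groth.Agent.H1.SplitTori

theorem exists_iso_of_grpIso {S : Scheme.{u}} {G H : Over S} [GrpObj G] [GrpObj H]
    (h : Nonempty (Grp.mk G ≅ Grp.mk H)) : ∃ e : G ≅ H, IsMonHom e.hom ∧ IsMonHom e.inv := by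
  obtain ⟨E⟩ := h
  refine ⟨(Grp.forget _).mapIso E, ?_, ?_⟩
  · exact (inferInstance : IsMonHom E.hom.hom.hom)
  · exact (inferInstance : IsMonHom E.inv.hom.hom)

section Chi
variable (S : Scheme.{u}) {M N : Type} [AddCommGroup M] [AddCommGroup N]

theorem DSmap_chi (φ : M →+ N) (m : M) : Red.DSmap S φ ≫ Red.chi S m = Red.chi S (φ m) := by
  unfold Red.chi
  rw [← Groth.Agent.H27.DiagHom.DSmap_comp]
  congr 1
  apply AddMonoidHom.ext_int
  simp

theorem chi_zero : Red.chi S (0 : M) = 1 := by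
  unfold Red.chi
  have : (zmultiplesHom M (0 : M) : ℤ →+ M) = 0 := by
    apply AddMonoidHom.ext_int; simp
  rw [this, Groth.Agent.H27.DiagHom.DSmap_zero]

theorem chi_injective (k : Type u) [CommRing k] [Nontrivial k] {m m' : M}
    (h : Red.chi (Spec (CommRingCat.of k)) m = Red.chi (Spec (CommRingCat.of k)) m') : m = m' := by
  have := Groth.Agent.H27.DiagHom.DSmap_injective k h
  have h2 := DFunLike.congr_fun this 1
  simpa using h2

end Chi

theorem core (k : Type u) [Field k] (nK nG nQ : ℕ)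
    (i' : Red.DS (Spec (CommRingCat.of k)) (Fin nK → ℤ) ⟶
      Red.DS (Spec (CommRingCat.of k)) (Fin nG → ℤ)) [IsMonHom i']
    (π' : Red.DS (Spec (CommRingCat.of k)) (Fin nG → ℤ) ⟶
      Red.DS (Spec (CommRingCat.of k)) (Fin nQ → ℤ)) [IsMonHom π']
    [Flat π'.left] [Surjective π'.left] (hker : AlgGrp.IsKernel i' π') :
    ∃ s : Red.DS (Spec (CommRingCat.of k)) (Fin nQ → ℤ) ⟶
        Red.DS (Spec (CommRingCat.of k)) (Fin nG → ℤ),
      IsMonHom s ∧ s ≫ π' = 𝟙 _ := by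
  obtain ⟨φ, hφ⟩ := full k π' (IsMonHom.one_hom π')
  obtain ⟨ψ, hψ⟩ := full k i' (IsMonHom.one_hom i')
  haveI : IsAffine (Red.DS (Spec (CommRingCat.of k)) (Fin nG → ℤ)).left :=
    .of_isIso (eN k (Fin nG → ℤ)).inv
  haveI : IsAffine (Red.DS (Spec (CommRingCat.of k)) (Fin nQ → ℤ)).left :=
    .of_isIso (eN k (Fin nQ → ℤ)).inv
  haveI : EffectiveEpi π'.left := inferInstance
  haveI : Epi π' := Groth.Agent.H40.FpqcDesc.epi_of_epi_left π'
  have hψφ : ψ.comp φ = 0 := by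
    apply Groth.Agent.H27.DiagHom.DSmap_injective k
    rw [Groth.Agent.H27.DiagHom.DSmap_comp, ← hφ, ← hψ, Groth.Agent.H27.DiagHom.DSmap_zero, hker.w]
    rfl
  have hφ_inj : Function.Injective φ := by
    rw [injective_iff_map_eq_zero]
    intro y hy
    have h1 : π' ≫ Red.chi (Spec (CommRingCat.of k)) y = Red.chi (Spec (CommRingCat.of k)) (φ y) := by
      rw [hφ]; exact DSmap_chi _ φ y
    have h2 : Red.chi (Spec (CommRingCat.of k)) y = 1 := by
      rw [← cancel_epi π', h1, hy, chi_zero, MonObj.comp_one]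
    exact chi_injective k (h2.trans (chi_zero _).symm)
  have hsat : ∀ (x : Fin nG → ℤ) (c : ℤ), c ≠ 0 → c • x ∈ Set.range φ → x ∈ Set.range φ := by
    rintro x c hc ⟨y, hy⟩
    have hψx : ψ x = 0 := by
      have h3 : c • ψ x = 0 := by
        rw [← map_zsmul, ← hy]; exact DFunLike.congr_fun hψφ y
      exact (smul_eq_zero.mp h3).resolve_left hc
    have hχ := Groth.Agent.H91.KummerKer.chi_isMonHom (Spec (CommRingCat.of k)) x
    have hix : i' ≫ Red.chi (Spec (CommRingCat.of k)) x = 1 := by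
      rw [hψ, DSmap_chi, hψx, chi_zero]
    obtain ⟨χ', hχ'⟩ := Groth.Agent.H40.FpqcDesc.exists_desc π'
      (Red.chi (Spec (CommRingCat.of k)) x) (fun W g₁ g₂ hg => by
        have hd : (g₁⁻¹ * g₂) ≫ π' = toUnit W ≫ η[Red.DS (Spec (CommRingCat.of k)) (Fin nQ → ℤ)] := by
          rw [MonObj.mul_comp _ _ π', GrpObj.inv_comp _ π', hg, inv_mul_cancel]
          rfl
        have hl := hker.lift_fst (g₁⁻¹ * g₂) (toUnit W) hd
        have h4 : (g₁⁻¹ * g₂) ≫ Red.chi (Spec (CommRingCat.of k)) x = 1 := by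
          rw [← hl, Category.assoc, hix, MonObj.comp_one]
        haveI := hχ
        rw [MonObj.mul_comp _ _ (Red.chi (Spec (CommRingCat.of k)) x),
          GrpObj.inv_comp _ (Red.chi (Spec (CommRingCat.of k)) x)] at h4
        exact inv_mul_eq_one.mp h4)
    have hχ'1 : η[Red.DS (Spec (CommRingCat.of k)) (Fin nQ → ℤ)] ≫ χ' =
        η[Red.Gm (Spec (CommRingCat.of k))] := by
      have e1 : η[Red.DS (Spec (CommRingCat.of k)) (Fin nG → ℤ)] ≫ π' =
          η[Red.DS (Spec (CommRingCat.of k)) (Fin nQ → ℤ)] := IsMonHom.one_hom π'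
      rw [← e1, Category.assoc, hχ', hχ.one_hom]
    obtain ⟨z, hz⟩ := char_eq_chi k nQ χ' hχ'1
    refine ⟨z, ?_⟩
    have h5 : Red.chi (Spec (CommRingCat.of k)) x = Red.chi (Spec (CommRingCat.of k)) (φ z) := by
      rw [← hχ', hz, hφ, DSmap_chi]
    exact (chi_injective k h5).symm
  obtain ⟨r, hr⟩ := exists_retraction φ hφ_inj hsat
  refine ⟨Red.DSmap (Spec (CommRingCat.of k)) r,
    Groth.Agent.H91.KummerKer.dsMap_isMonHom _ r, ?_⟩
  rw [hφ, ← Groth.Agent.H27.DiagHom.DSmap_comp, hr, Groth.Agent.H27.DiagHom.DSmap_id]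

theorem main (k : Type u) [Field k]
    (K G Q : Over (Spec (CommRingCat.of k))) [GrpObj K] [GrpObj G] [GrpObj Q] (nK nG nQ : ℕ)
    (hK : Red.IsSplitTorusWith (Fin nK → ℤ) K) (hG : Red.IsSplitTorusWith (Fin nG → ℤ) G)
    (hQ : Red.IsSplitTorusWith (Fin nQ → ℤ) Q)
    (i : K ⟶ G) [IsMonHom i]
    (π : G ⟶ Q) [IsMonHom π] [Flat π.left] [Surjective π.left] (hker : AlgGrp.IsKernel i π) :
    ∃ s : Q ⟶ G, IsMonHom s ∧ s ≫ π = 𝟙 Q := by
  obtain ⟨eK, hKh, hKi⟩ := exists_iso_of_grpIso hK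
  obtain ⟨eG, hGh, hGi⟩ := exists_iso_of_grpIso hG
  obtain ⟨eQ, hQh, hQi⟩ := exists_iso_of_grpIso hQ
  haveI : IsIso eG.inv.left := (Over.forget _).map_isIso eG.inv
  haveI : IsIso eQ.hom.left := (Over.forget _).map_isIso eQ.hom
  haveI : Flat (eG.inv ≫ π ≫ eQ.hom).left := by
    rw [Over.comp_left, Over.comp_left]; infer_instance
  haveI : Surjective (eG.inv ≫ π ≫ eQ.hom).left := by
    rw [Over.comp_left, Over.comp_left]; infer_instance
  have hker' : AlgGrp.IsKernel (eK.inv ≫ i ≫ eG.hom) (eG.inv ≫ π ≫ eQ.hom) := by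
    refine IsPullback.of_iso hker eK eG (Iso.refl _) eQ ?_ ?_ ?_ ?_
    · simp
    · exact toUnit_unique _ _
    · simp
    · rw [Iso.refl_hom, Category.id_comp]; exact IsMonHom.one_hom eQ.hom
  obtain ⟨s', hs', hsπ⟩ := core k nK nG nQ (eK.inv ≫ i ≫ eG.hom) (eG.inv ≫ π ≫ eQ.hom) hker'
  refine ⟨eQ.hom ≫ s' ≫ eG.inv, inferInstance, ?_⟩
  have h := congrArg (fun t => eQ.hom ≫ t ≫ eQ.inv) hsπ
  simpa using h

end Groth.Agent.H1.SplitTori
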